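import Cfsg.Agent.H854.Ore.Ext
import Cfsg.Agent.H334.Ore.M24

/-!
# Commutators `[s, y]` in `M24` with `s` of cycle type `3^8` and `⟨s, y⟩` containing elements of order 23 (helper64)

* `s0` : an element of cycle type `3^8`;
* `m24_cert` : every `u ≠ 1` in `M24` with `u ^ (3 * 2 ^ n) = 1` is conjugate to `s0 * y * s0⁻¹ * y⁻¹`, with an element
  of order 23 in `closure {s0, y}`;
* `s0_cube`, `s0_move`, `three_conj` : the fixed-point-free elements of order 3 are conjugate to `s0`.
-/

set_option autoImplicit false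
set_option Elab.async false

open Cfsg Subgroup

namespace Cfsg.Agent.H64.QF.M24Cert

open Cfsg.Agent.SporadicStructure.M24El Cfsg.Agent.SporadicA.GolayPerm Cfsg.Agent.Lib.F2Mat
open Cfsg.Agent.H334.Ore.Mat Cfsg.Agent.H854.Ore

/-- the packed element of type `3^8` -/
def S0 : ℕ := 917150455939460404939281612745760357

/-- data: `(y, t, c, w)` with `c r c⁻¹ = t = [s0, y]`, `w` a word of order 23 in `s0, y`; or `(q, k, 0, [])`: order `q k` -/
def Dt : List (ℕ × ℕ × ℕ × List ℕ) := [(917054857337324220270612108137580880, 766133151260226158403974633051490737, 748406615136588081402036328490030314, [1, 1, 0, 0]),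
  (425016834130010739789019880591448211, 568158591582469822601611657983142056, 375326798105817729403347050077272182, [0, 1, 1, 1]),
  (391352500158920249861375749502143959, 968592039557748322030855749160632615, 359067677755014693885070892841714770, [0, 0, 1, 1, 1, 1]),
  (963905038586230069218179974903713127, 175913154341302472677408138922012212, 97783656223962914312697001205179589, [0, 1]),
  (444572926859963133357353949589558580, 688087882943029613961130883092073827, 3310397940704217911510834083178167, [0, 1, 1, 1]),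
  (969000446787698455718084788301737475, 852134277240376612629019292198865107, 14579827772983734411405933621711558, [0, 1, 1, 0, 0, 1, 1]),
  (220003597214352896426886281772029286, 632712964307440707514673557935589091, 131999469720833544446585815792357399, [1, 0, 1, 0, 0, 1]),
  (5, 1, 0, []),
  (686993579691308816879645611638399588, 972363120351651314741701474618808970, 7316302001382420026009039579332999, [0, 1]),
  (777686181535337859640294116137697967, 593463390742451005693048642891469398, 902545222214526794566522243652097139, [0, 1, 1, 0, 0, 1, 0]),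
  (7, 1, 0, []),
  (7, 1, 0, []),
  (336953798069353990970748618668002534, 229324653184996678978261708285818086, 56524566598779641559368998449457734, [1, 0, 1, 1]),
  (5, 2, 0, []),
  (11, 1, 0, []),
  (361694361887746231499909812045557778, 680575264101998584333613954431168068, 678962023320061471833590108509180938, [0, 1, 0, 1, 1, 1]),
  (52536645803519795313426585086537395, 93104464771381174205492188129305220, 141914226652815407364293351946472998, [1, 1]),
  (7, 2, 0, []),
  (7, 2, 0, []),
  (5, 3, 0, []),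
  (5, 3, 0, []),
  (7, 3, 0, []),
  (7, 3, 0, []),
  (23, 1, 0, []),
  (23, 1, 0, [])]

/-- check for a representative of order `2^a`, `3 * 2^a` -/
def chkY (r : Rec) (d : ℕ × ℕ × ℕ × List ℕ) : Bool :=
  ok d.1 && (ok d.2.1 && (ok d.2.2.1 && (Nat.beq (pcomp d.2.2.1 r.c) (pcomp d.2.1 d.2.2.1) &&
    (Nat.beq (pcomp d.2.1 (pcomp d.1 S0)) (pcomp S0 d.1) &&
      (Nat.beq (ppw (prodW [S0, d.1] d.2.2.2) 23) idP &&
        !(Nat.beq (papp (prodW [S0, d.1] d.2.2.2) 0) 0 && Nat.beq (papp (prodW [S0, d.1] d.2.2.2) 1) 1))))))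

/-- check for a representative of another order -/
def chkN (r : Rec) (d : ℕ × ℕ × ℕ × List ℕ) : Bool :=
  (Nat.beq d.1 5 || (Nat.beq d.1 7 || (Nat.beq d.1 11 || Nat.beq d.1 23))) &&
    (Nat.beq (ppw r.c (Nat.mul d.1 d.2.1)) idP &&
      !((List.range 24).all fun i => Nat.beq (papp (ppw r.c d.2.1) i) i))

/-- the check -/
def chk (r : Rec) (d : ℕ × ℕ × ℕ × List ℕ) : Bool := ok r.c && (chkY r d || chkN r d)

/-- the check of the list -/
def chkL : List Rec → List (ℕ × ℕ × ℕ × List ℕ) → Bool
  | [], [] => true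
  | r :: D, w :: W => chk r w && chkL D W
  | _, _ => false

theorem exists_chk : ∀ {D : List Rec} {W : List (ℕ × ℕ × ℕ × List ℕ)}, chkL D W = true → ∀ r ∈ D, ∃ w, chk r w = true := by
  intro D
  induction D with
  | nil => intro W _ r hr; exact absurd hr List.not_mem_nil
  | cons r D ih =>
    intro W h s hs
    cases W with
    | nil => exact Bool.noConfusion h
    | cons w W =>
      have h1 : chk r w = true ∧ chkL D W = true := by
        have h2 : (chk r w && chkL D W) = true := h
        rwa [Bool.and_eq_true] at h2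
      rcases List.mem_cons.1 hs with rfl | hs
      · exact ⟨w, h1.1⟩
      · exact ih h1.2 s hs

theorem hW : chkL Cfsg.Agent.H334.Ore.M24Data.D Dt = true := by decide +kernel

/-- an element of cycle type `3^8` -/
noncomputable def s0 : M24 := el S0

theorem ok_S0 : ok S0 = true := by decide +kernel

theorem s0_cube : s0 ^ 3 = 1 := by
  have h : ppw S0 3 = idP := by decide +kernel
  have h2 := congrArg el h
  rwa [(el_ppw ok_S0 3).2, el_idP] at h2

theorem s0_move (p : GolayPt) : s0 • p ≠ p := by
  intro h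
  have h1 := idx_el_smul ok_S0 p
  rw [show el S0 = s0 from rfl, h] at h1
  have h2 : ∀ i < 24, papp S0 i ≠ i := by decide +kernel
  exact h2 _ (SporadicA.GolayBase.idx_lt p) h1.symm

theorem s0_ne : s0 ≠ 1 := by
  intro h
  apply s0_move (SporadicA.GolayBase.pt 0)
  rw [h, one_smul]

/-- **the certificate** -/
theorem m24_cert {u : M24} {n : ℕ} (hu : u ^ (3 * 2 ^ n) = 1) (h1 : u ≠ 1) :
    ∃ c y w : M24, c * u * c⁻¹ = s0 * y * s0⁻¹ * y⁻¹ ∧ w ∈ closure {s0, y} ∧ w ^ 23 = 1 ∧ w ≠ 1 := by
  rcases Cfsg.Agent.H334.Ore.M24R.cov u with rfl | ⟨r, hr, x, hx, hg⟩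
  · exact absurd rfl h1
  obtain ⟨d, hd⟩ := exists_chk hW r hr
  unfold chk at hd
  rw [Bool.and_eq_true, Bool.or_eq_true] at hd
  obtain ⟨hrc, hd⟩ := hd
  obtain ⟨g, hg⟩ := isConj_iff.1 hg
  have hx' : x = el r.c := hx
  rw [hx'] at hg
  rcases hd with hd | hd
  · unfold chkY at hd
    rw [Bool.and_eq_true, Bool.and_eq_true, Bool.and_eq_true, Bool.and_eq_true, Bool.and_eq_true,
      Bool.and_eq_true] at hd
    obtain ⟨hy, ht, hc, h2, h3, h4, h5⟩ := hd
    have hgl : ∀ P ∈ [S0, d.1], ok P = true := by
      intro P hP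
      rcases List.mem_cons.1 hP with rfl | hP
      · exact ok_S0
      · rw [List.mem_singleton.1 hP]; exact hy
    have hw : ok (prodW [S0, d.1] d.2.2.2) = true := ok_prodW hgl _
    have e2 := congrArg el (Nat.eq_of_beq_eq_true h2)
    rw [el_pcomp hc hrc, el_pcomp ht hc] at e2
    have e3 := congrArg el (Nat.eq_of_beq_eq_true h3)
    rw [el_pcomp ht (ok_pcomp hy ok_S0), el_pcomp hy ok_S0, el_pcomp ok_S0 hy] at e3
    have e4 := congrArg el (Nat.eq_of_beq_eq_true h4)
    rw [(el_ppw hw 23).2, el_idP] at e4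
    have hm : ∃ i < 24, papp (prodW [S0, d.1] d.2.2.2) i ≠ i := by
      by_contra hcon
      push Not at hcon
      rw [hcon 0 (by norm_num), hcon 1 (by norm_num)] at h5
      exact absurd h5 (by decide)
    refine ⟨el d.2.2.1 * g⁻¹, el d.1, el (prodW [S0, d.1] d.2.2.2), ?_, ?_, e4, el_ne hw hm⟩
    · have e5 : el d.2.2.1 * g⁻¹ * u * (el d.2.2.1 * g⁻¹)⁻¹ = el d.2.2.1 * el r.c * (el d.2.2.1)⁻¹ := by
        rw [← hg]; group
      rw [e5, e2, mul_inv_cancel_right]
      have e6 : s0 * el d.1 = el d.2.1 * (el d.1 * s0) := e3.symm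
      rw [e6]; group
    · apply el_prodW_mem hgl
      intro i _
      rcases i with _ | _ | i
      · exact subset_closure (Or.inl rfl)
      · exact subset_closure (Or.inr rfl)
      · have : [S0, d.1].getD (i + 1 + 1) idP = idP := rfl
        rw [this, el_idP]
        exact one_mem _
  · exfalso
    unfold chkN at hd
    rw [Bool.and_eq_true, Bool.and_eq_true] at hd
    obtain ⟨hq, h2, h3⟩ := hd
    have hq' : Nat.Coprime d.1 (3 * 2 ^ n) := by
      rw [Bool.or_eq_true, Bool.or_eq_true, Bool.or_eq_true] at hq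
      rcases hq with h | h | h | h <;> rw [Nat.eq_of_beq_eq_true h] <;>
        exact Nat.Coprime.mul_right (by norm_num) (Nat.Coprime.pow_right n (by norm_num))
    have e2 := congrArg el (Nat.eq_of_beq_eq_true h2)
    rw [(el_ppw hrc _).2, el_idP] at e2
    have e3 : (el r.c) ^ (3 * 2 ^ n) = 1 := by
      have : el r.c = g⁻¹ * u * g⁻¹⁻¹ := by rw [← hg]; group
      rw [this, conj_pow, hu]; group
    have e4 : (el r.c) ^ d.2.1 = 1 := by
      have h4 : orderOf (el r.c) ∣ d.1 * d.2.1 := orderOf_dvd_of_pow_eq_one e2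
      have h5 : orderOf (el r.c) ∣ 3 * 2 ^ n := orderOf_dvd_of_pow_eq_one e3
      have h6 : Nat.Coprime (orderOf (el r.c)) d.1 := (hq'.coprime_dvd_right h5).symm
      exact orderOf_dvd_iff_pow_eq_one.1 (h6.dvd_of_dvd_mul_left h4)
    have hm : ∃ i < 24, papp (ppw r.c d.2.1) i ≠ i := by
      by_contra hcon
      push Not at hcon
      rw [Bool.not_eq_true'] at h3
      have : (List.range 24).all (fun i => Nat.beq (papp (ppw r.c d.2.1) i) i) = true := by
        rw [List.all_eq_true]
        intro i hi
        rw [hcon i (List.mem_range.1 hi)]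
        exact Nat.beq_refl i
      rw [this] at h3
      exact Bool.noConfusion h3
    apply el_ne (el_ppw hrc d.2.1).1 hm
    rw [(el_ppw hrc _).2, e4]

/-- check for the orders of the representatives -/
def chkT (r : Rec) : Bool :=
  ok r.c && (!((List.range 24).all fun i => Nat.beq (papp (ppw r.c 3) i) i) ||
    (Nat.beq r.c S0 || (List.range 24).any fun i => Nat.beq (papp r.c i) i))

theorem hT : Cfsg.Agent.H334.Ore.M24Data.D.all chkT = true := by decide +kernel

/-- **the fixed-point-free elements of order 3 are conjugate to `s0`** -/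
theorem three_conj {u : M24} (hu : u ^ 3 = 1) (hf : ∀ p : GolayPt, u • p ≠ p) : ∃ c : M24, c * u * c⁻¹ = s0 := by
  rcases Cfsg.Agent.H334.Ore.M24R.cov u with rfl | ⟨r, hr, x, hx, hg⟩
  · exact absurd (one_smul _ _) (hf (SporadicA.GolayBase.pt 0))
  have h := List.all_eq_true.1 hT r hr
  unfold chkT at h
  rw [Bool.and_eq_true, Bool.or_eq_true, Bool.or_eq_true] at h
  obtain ⟨hrc, h⟩ := h
  obtain ⟨g, hg⟩ := isConj_iff.1 hg
  have hx' : x = el r.c := hx
  rw [hx'] at hg
  have e0 : el r.c = g⁻¹ * u * g⁻¹⁻¹ := by rw [← hg]; group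
  rcases h with h | h | h
  · exfalso
    have e1 : (el r.c) ^ 3 = 1 := by rw [e0, conj_pow, hu]; group
    have hm : ∃ i < 24, papp (ppw r.c 3) i ≠ i := by
      by_contra hcon
      push Not at hcon
      rw [Bool.not_eq_true'] at h
      have : (List.range 24).all (fun i => Nat.beq (papp (ppw r.c 3) i) i) = true := by
        rw [List.all_eq_true]
        intro i hi
        rw [hcon i (List.mem_range.1 hi)]
        exact Nat.beq_refl i
      rw [this] at h
      exact Bool.noConfusion h
    apply el_ne (el_ppw hrc 3).1 hm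
    rw [(el_ppw hrc _).2, e1]
  · refine ⟨g⁻¹, ?_⟩
    have h2 := Nat.eq_of_beq_eq_true h
    have : g⁻¹ * u * g⁻¹⁻¹ = el S0 := by rw [← h2, ← e0]
    exact this
  · exfalso
    rw [List.any_eq_true] at h
    obtain ⟨i, hi, h⟩ := h
    have hi' := List.mem_range.1 hi
    have h2 := Nat.eq_of_beq_eq_true h
    have h3 : el r.c • SporadicA.GolayBase.pt i = SporadicA.GolayBase.pt i := by
      rw [el_smul_pt hrc, SporadicA.GolayBase.idx_pt hi', h2]
    apply hf (g • SporadicA.GolayBase.pt i)
    have h4 : u * g = g * el r.c := by rw [← hg]; group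
    rw [← mul_smul, h4, mul_smul, h3]

end Cfsg.Agent.H64.QF.M24Cert
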